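import Mathlib
import Groth.Prelude.Def_SGA1
import Groth.Agent.TopInvHomeo.Basic

/-!
# Universally submersive morphisms are descent morphisms for étale schemes

`existsUnique_section`: sections of étale morphisms descend along universally submersive morphisms;
`existsUnique_hom`: morphisms to étale schemes descend.
-/

set_option autoImplicit false
set_option linter.style.haveILetI false
set_option backward.isDefEq.respectTransparency.types false

noncomputable section

open AlgebraicGeometry CategoryTheory CategoryTheory.Limits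

namespace Groth.Agent.SubmDesc

universe u

instance : SGA1.UnivSubmersive.{u}.IsStableUnderBaseChange := by
  delta SGA1.UnivSubmersive; infer_instance

theorem exists_field_point {Z : Scheme.{u}} (z : Z) :
    ∃ (K : Type u) (_ : Field K) (j : Spec (CommRingCat.of K) ⟶ Z), ∀ x, j x = z :=
  ⟨Z.residueField z, inferInstance, Z.fromSpecResidueField z, Scheme.fromSpecResidueField_apply z⟩

theorem comp_app {A B C : Scheme.{u}} (f : A ⟶ B) (g : B ⟶ C) (a : A) : (f ≫ g) a = g (f a) :=
  Scheme.Hom.comp_apply f g a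

theorem isQuotientMap_of_isPullback {X' X E' E : Scheme.{u}} {π : X' ⟶ X} (hπ : SGA1.UnivSubmersive π)
    {e : E ⟶ X} {fst : E' ⟶ E} {snd : E' ⟶ X'} (h : IsPullback fst snd e π) :
    Topology.IsQuotientMap fst :=
  hπ snd e fst h

theorem surjective_of_univSubmersive {X' X : Scheme.{u}} {π : X' ⟶ X} (hπ : SGA1.UnivSubmersive π) :
    Surjective π :=
  ⟨(MorphismProperty.universally_le _ _ hπ).surjective⟩

/-- sections of étale morphisms agreeing after a surjection agree -/
theorem section_ext {X' X E : Scheme.{u}} (π : X' ⟶ X) [Surjective π] (e : E ⟶ X) [Etale e]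
    {s₁ s₂ : X ⟶ E} (h₁ : s₁ ≫ e = 𝟙 X) (h₂ : s₂ ≫ e = 𝟙 X) (h : π ≫ s₁ = π ≫ s₂) : s₁ = s₂ := by
  let d := pullback.fst (pullback.lift s₁ s₂ (h₁.trans h₂.symm)) (pullback.diagonal e)
  haveI : IsOpenImmersion d := MorphismProperty.of_isPullback (P := @IsOpenImmersion)
    (IsPullback.of_hasPullback _ _).flip (inferInstance : IsOpenImmersion (pullback.diagonal e))
  have hd : d ≫ s₁ = d ≫ s₂ := by
    have hc := pullback.condition (f := pullback.lift s₁ s₂ (h₁.trans h₂.symm)) (g := pullback.diagonal e)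
    have e₁ := congr($hc ≫ pullback.fst e e)
    have e₂ := congr($hc ≫ pullback.snd e e)
    simp only [Category.assoc, pullback.lift_fst, pullback.lift_snd, pullback.diagonal_fst,
      pullback.diagonal_snd, Category.comp_id] at e₁ e₂
    exact e₁.trans e₂.symm
  haveI : Surjective d := ⟨fun x => by
    obtain ⟨x', rfl⟩ := π.surjective x
    have hw : π ≫ pullback.lift s₁ s₂ (h₁.trans h₂.symm) = (π ≫ s₁) ≫ pullback.diagonal e := by
      apply pullback.hom_ext
      · rw [Category.assoc, pullback.lift_fst, Category.assoc, pullback.diagonal_fst, Category.comp_id]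
      · rw [Category.assoc, pullback.lift_snd, Category.assoc, pullback.diagonal_snd, Category.comp_id, h]
    exact ⟨pullback.lift π (π ≫ s₁) hw x', (comp_app _ _ _).symm.trans
      (congrArg (fun m : X' ⟶ X => m x') (pullback.lift_fst _ _ hw))⟩⟩
  haveI : IsIso d := (isIso_iff_isOpenImmersion_and_surjective d).mpr ⟨inferInstance, inferInstance⟩
  exact (cancel_epi d).mp hd

/-- sections of étale morphisms descend along universally submersive morphisms -/
theorem existsUnique_section {X' X E : Scheme.{u}} {π : X' ⟶ X} (hπ : SGA1.UnivSubmersive π)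
    (e : E ⟶ X) [Etale e] (t : X' ⟶ E) (ht : t ≫ e = π)
    (hc : ∀ {T : Scheme.{u}} (a b : T ⟶ X'), a ≫ π = b ≫ π → a ≫ t = b ≫ t) :
    ∃! s : X ⟶ E, s ≫ e = 𝟙 X ∧ π ≫ s = t := by
  haveI := surjective_of_univSubmersive hπ
  let pr := pullback.fst e π
  let σ : X' ⟶ pullback e π := pullback.lift t (𝟙 _) (by rw [ht, Category.id_comp])
  have hσ₁ : σ ≫ pr = t := pullback.lift_fst _ _ _
  have hσ₂ : σ ≫ pullback.snd e π = 𝟙 _ := pullback.lift_snd _ _ _
  haveI : IsOpenImmersion σ := by
    have : Etale (σ ≫ pullback.snd e π) := by rw [hσ₂]; infer_instance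
    have : Etale σ := Etale.of_comp σ (pullback.snd e π)
    have : IsSplitMono σ := IsSplitMono.mk' ⟨_, hσ₂⟩
    exact IsOpenImmersion.of_flat_of_mono σ
  -- field valued test: a point of `E` met by `t` and any point over it
  have key : ∀ {K : Type u} [Field K] (a' b' : Spec (CommRingCat.of K) ⟶ pullback e π),
      a' ≫ pr = b' ≫ pr → a' (IsLocalRing.closedPoint K) ∈ Set.range σ →
      (b' (IsLocalRing.closedPoint K) ∈ Set.range σ ∧ a' ≫ pr = (b' ≫ pullback.snd e π) ≫ t) := by
    intro K _ a' b' hab ha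
    obtain ⟨a, ha'⟩ : ∃ a, a ≫ σ = a' := ⟨IsOpenImmersion.lift σ a' (by
      rintro _ ⟨x, rfl⟩
      exact Subsingleton.elim (α := PrimeSpectrum K) x (IsLocalRing.closedPoint K) ▸ ha),
      IsOpenImmersion.lift_fac _ _ _⟩
    have h1 : a' ≫ pr = a ≫ t := by rw [← ha', Category.assoc, hσ₁]
    have h2 : a ≫ t = (b' ≫ pullback.snd e π) ≫ t := hc _ _ (by
      rw [Category.assoc, ← pullback.condition, ← reassoc_of% hab, reassoc_of% h1, ht])
    refine ⟨⟨(b' ≫ pullback.snd e π) (IsLocalRing.closedPoint K), ?_⟩, h1.trans h2⟩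
    have : (b' ≫ pullback.snd e π) ≫ σ = b' := pullback.hom_ext
      (by rw [Category.assoc, hσ₁]; exact (h1.trans h2).symm.trans hab)
      (by rw [Category.assoc, hσ₂, Category.comp_id])
    exact congr($this (IsLocalRing.closedPoint K))
  have hsat : pr ⁻¹' (pr '' Set.range σ) = Set.range σ := by
    refine Set.Subset.antisymm (fun p' hp' => ?_) (Set.subset_preimage_image _ _)
    obtain ⟨p, hp, hpp⟩ := hp'
    obtain ⟨w, hw₁, hw₂⟩ := Scheme.Pullback.exists_preimage_pullback (f := pr) (g := pr) p p' hpp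
    obtain ⟨K, _, j, hj⟩ := exists_field_point w
    obtain ⟨hb, -⟩ := key (j ≫ pullback.fst pr pr) (j ≫ pullback.snd pr pr)
      (by rw [Category.assoc, Category.assoc, pullback.condition])
      ((((comp_app j _ _).trans (congrArg _ (hj _))).trans hw₁).symm ▸ hp :)
    exact (((comp_app j _ _).trans (congrArg _ (hj _))).trans hw₂) ▸ hb
  let W : E.Opens := ⟨pr '' Set.range σ, by
    rw [← (isQuotientMap_of_isPullback hπ (IsPullback.of_hasPullback e π)).isOpen_preimage, hsat]
    exact σ.isOpenEmbedding.isOpen_range⟩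
  let e' := W.ι ≫ e
  let t' : X' ⟶ W.toScheme := IsOpenImmersion.lift W.ι t (by
    rw [Scheme.Opens.range_ι]
    rintro _ ⟨x, rfl⟩
    exact ⟨σ x, ⟨x, rfl⟩, congr($hσ₁ x)⟩)
  have ht' : t' ≫ W.ι = t := IsOpenImmersion.lift_fac _ _ _
  have hte : t' ≫ e' = π := by rw [← Category.assoc, ht', ht]
  haveI : Surjective e' := by
    haveI : Surjective (t' ≫ e') := hte ▸ inferInstance
    exact Surjective.of_comp t' e'
  haveI : UniversallyInjective e' := (UniversallyInjective.iff_diagonal e').mpr ⟨fun w => by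
    obtain ⟨x', hx'⟩ := π.surjective ((pullback.fst e' e' ≫ e') w)
    obtain ⟨w', hw', -⟩ := Scheme.Pullback.exists_preimage_pullback (f := pullback.fst e' e' ≫ e') (g := π)
      w x' hx'.symm
    obtain ⟨K, _, j, hj⟩ := exists_field_point w'
    let c := j ≫ pullback.fst (pullback.fst e' e' ≫ e') π
    let x := j ≫ pullback.snd (pullback.fst e' e' ≫ e') π
    have hcx : c ≫ pullback.fst e' e' ≫ e' = x ≫ π := by
      exact (Category.assoc _ _ _).trans ((congrArg (j ≫ ·) pullback.condition).trans
        (Category.assoc _ _ _).symm)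
    have hpt : ∀ r : pullback e' e' ⟶ W.toScheme, r ≫ e' = pullback.fst e' e' ≫ e' →
        c ≫ r ≫ W.ι = x ≫ t := fun r hr => by
      have hh : (c ≫ r ≫ W.ι) ≫ e = x ≫ π := by
        rw [Category.assoc, Category.assoc, ← hcx]; exact congrArg (c ≫ ·) hr
      let P' : Spec (CommRingCat.of K) ⟶ pullback e π := pullback.lift (c ≫ r ≫ W.ι) x hh
      have hP₁ : P' ≫ pr = c ≫ r ≫ W.ι := pullback.lift_fst _ _ hh
      have hP₂ : P' ≫ pullback.snd e π = x := pullback.lift_snd _ _ hh
      obtain ⟨p, hp, hpe⟩ : (c ≫ r ≫ W.ι) (IsLocalRing.closedPoint K) ∈ pr '' Set.range σ :=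
        ((c ≫ r) (IsLocalRing.closedPoint K)).2
      have hP' : P' (IsLocalRing.closedPoint K) ∈ Set.range σ := by
        rw [← hsat]
        refine ⟨p, hp, hpe.trans ?_⟩
        rw [← hP₁]
        exact comp_app _ _ _
      exact hP₁.symm.trans ((key P' P' rfl hP').2.trans (by rw [hP₂]))
    have h12 : c ≫ pullback.fst e' e' = c ≫ pullback.snd e' e' := by
      refine (cancel_mono W.ι).mp ((Category.assoc _ _ _).trans ((hpt _ rfl).trans ?_))
      exact (hpt _ pullback.condition.symm).symm.trans (Category.assoc _ _ _).symm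
    have hdiag : (c ≫ pullback.fst e' e') ≫ pullback.diagonal e' = c := by
      apply pullback.hom_ext
      · rw [Category.assoc, pullback.diagonal_fst, Category.comp_id]
      · rw [Category.assoc, pullback.diagonal_snd, Category.comp_id, h12]
    refine ⟨(c ≫ pullback.fst e' e') (IsLocalRing.closedPoint K), ?_⟩
    refine ((comp_app _ _ _).symm.trans (congr($hdiag (IsLocalRing.closedPoint K)))).trans ?_
    exact (comp_app _ _ _).trans ((congrArg _ (hj _)).trans hw')⟩
  haveI := TopInvHomeo.mono_of_universallyInjective e'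
  haveI : IsOpenImmersion e' := IsOpenImmersion.of_flat_of_mono e'
  haveI : IsIso e' := (isIso_iff_isOpenImmersion_and_surjective e').mpr ⟨inferInstance, inferInstance⟩
  have hs : π ≫ inv e' = t' := by rw [IsIso.comp_inv_eq, hte]
  refine ⟨inv e' ≫ W.ι, ⟨by rw [Category.assoc]; exact IsIso.inv_hom_id e', by rw [reassoc_of% hs, ht']⟩, ?_⟩
  rintro s ⟨h₁, h₂⟩
  refine section_ext π e h₁ (by rw [Category.assoc]; exact IsIso.inv_hom_id e') ?_
  rw [h₂, reassoc_of% hs, ht']

/-- morphisms to étale schemes descend along universally submersive morphisms -/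
theorem existsUnique_hom {S' S X Y : Scheme.{u}} {g : S' ⟶ S} (hg : SGA1.UnivSubmersive g)
    (p : X ⟶ S) (q : Y ⟶ S) [Etale q] {X' : Scheme.{u}} {π : X' ⟶ X} {p' : X' ⟶ S'}
    (hX : IsPullback π p' p g) (t : X' ⟶ Y) (ht : t ≫ q = π ≫ p)
    (hc : ∀ {T : Scheme.{u}} (a b : T ⟶ X'), a ≫ π = b ≫ π → a ≫ t = b ≫ t) :
    ∃! u : X ⟶ Y, u ≫ q = p ∧ π ≫ u = t := by
  have hπ : SGA1.UnivSubmersive π :=
    MorphismProperty.of_isPullback (P := SGA1.UnivSubmersive) hX.flip hg
  obtain ⟨s, ⟨hs, hs'⟩, huniq⟩ := existsUnique_section hπ (pullback.fst p q)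
    (pullback.lift π t ht.symm) (pullback.lift_fst _ _ _) (fun a b h => by
      apply pullback.hom_ext
      · rw [Category.assoc, Category.assoc, pullback.lift_fst]; exact h
      · rw [Category.assoc, Category.assoc, pullback.lift_snd]; exact hc a b h)
  refine ⟨s ≫ pullback.snd p q, ⟨?_, by rw [reassoc_of% hs', pullback.lift_snd]⟩, ?_⟩
  · rw [Category.assoc, ← pullback.condition, reassoc_of% hs]
  · rintro v ⟨h₁, h₂⟩
    rw [← huniq (pullback.lift (𝟙 _) v (by rw [h₁, Category.id_comp]))
      ⟨pullback.lift_fst _ _ _, by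
        apply pullback.hom_ext
        · rw [Category.assoc, pullback.lift_fst, pullback.lift_fst, Category.comp_id]
        · rw [Category.assoc, pullback.lift_snd, pullback.lift_snd, h₂]⟩, pullback.lift_snd]

end Groth.Agent.SubmDesc
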